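import Groth.Prelude.Def_W4stk3sptopologiesPh
import Groth.Prelude.Def_AlgSpCov
import Groth.Agent.AlgSpLib.ProperRange
import Groth.Agent.AlgSpLib.ProperCrit
import Groth.Agent.AlgSpLib.QCompact
import Groth.Agent.AlgSpLib.LocP
import Groth.Agent.SpApprox.PhCover
import Groth.Agent.S10514
import Mathlib.CategoryTheory.Sites.Canonical

/-!
# Sheaves for the ph topology are etale sheaves with descent along proper surjective morphisms
-/

set_option autoImplicit false
set_option linter.style.haveILetI false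
set_option backward.isDefEq.respectTransparency false

universe u w

open CategoryTheory CategoryTheory.Limits AlgebraicGeometry Opposite

namespace Groth.Agent.PhSheaf

open _root_.AlgSp Groth.Agent.AlgSpLib

variable {S : Scheme.{u}} {X : AlgSp.Space S} {F : (Over X)ᵒᵖ ⥤ Type w}

theorem symm_mem_over (J : GrothendieckTopology (Space S)) {U₀ : Space S} (h : U₀ ⟶ X) {R : Sieve U₀}
    (hR : R ∈ J U₀) : (Sieve.overEquiv (Over.mk h)).symm R ∈ J.over X (Over.mk h) := by
  rw [GrothendieckTopology.mem_over_iff, OrderIso.apply_symm_apply]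
  exact hR

theorem etaleTop_le (hF : Presheaf.IsSheaf (spacesTopOver IsEtaleMor X) F) :
    spacesTopOver IsEtaleMor X ≤ Sheaf.finestTopologySingle F := fun _ _ hR _ _ =>
  (isSheaf_iff_isSheaf_of_type _ F).1 hF _ ((spacesTopOver IsEtaleMor X).pullback_stable _ hR)

/-- jointly surjective etale families cover for the topology of `F` -/
theorem etale_mem (hF : Presheaf.IsSheaf (spacesTopOver IsEtaleMor X) F) {U₀ : Space S} (h : U₀ ⟶ X)
    (R : Presieve U₀) (hR : R ∈ spacesPre S IsEtaleMor U₀) :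
    (Sieve.overEquiv (Over.mk h)).symm (Sieve.generate R) ∈ Sheaf.finestTopologySingle F (Over.mk h) :=
  etaleTop_le hF _ (symm_mem_over _ h (Precoverage.generate_mem_toGrothendieck hR))

/-- descent data for proper surjective morphisms -/
def Desc (F : (Over X)ᵒᵖ ⥤ Type w) : Prop :=
  ∀ ⦃U V W : Over X⦄ (f : V ⟶ U) (p q : W ⟶ V),
    IsProperMor f.left.hom → IsSurjectiveMor f.left.hom →
    IsPullback p.left.hom q.left.hom f.left.hom f.left.hom →
    ∀ t : F.obj (op V), F.map p.op t = F.map q.op t → ∃! s : F.obj (op U), F.map f.op s = t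

/-- proper surjective morphisms cover for the topology of `F` -/
theorem proper_mem (hd : Desc F) {U₀ V₀ : Space S} (h : U₀ ⟶ X) (p : V₀ ⟶ U₀) (hp : IsProperMor p.hom)
    (hs : IsSurjectiveMor p.hom) :
    (Sieve.overEquiv (Over.mk h)).symm (Sieve.generate (Presieve.singleton p)) ∈
      Sheaf.finestTopologySingle F (Over.mk h) := by
  intro T f
  have sq := IsPullback.of_hasPullback p.hom f.left.hom
  let W : Space S := ⟨pullback p.hom f.left.hom,
    isAlgSpace_of_isPullback_space U₀.property V₀.property T.left.property sq⟩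
  let a : W ⟶ T.left := ObjectProperty.homMk (pullback.snd p.hom f.left.hom)
  let b : W ⟶ V₀ := ObjectProperty.homMk (pullback.fst p.hom f.left.hom)
  let g : Over.mk (a ≫ T.hom) ⟶ T := Over.homMk a rfl
  have hgen : ((Sieve.overEquiv (Over.mk h)).symm (Sieve.generate (Presieve.singleton p))).pullback f =
      Sieve.generate (Presieve.singleton g) := by
    ext Z k
    rw [Sieve.pullback_apply, Sieve.overEquiv_symm_iff]
    constructor
    · rintro ⟨V₁, d, p₁, ⟨⟩, hd'⟩
      let l : Z.left ⟶ W := ObjectProperty.homMk (sq.lift d.hom k.left.hom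
        (congrArg (fun m => m.hom) hd'))
      have hl : l ≫ a = k.left := ObjectProperty.hom_ext _ (sq.lift_snd _ _ _)
      refine ⟨Over.mk (a ≫ T.hom), (Over.homMk l (by
        show l ≫ a ≫ T.hom = Z.hom
        rw [reassoc_of% hl, Over.w k]) : Z ⟶ Over.mk (a ≫ T.hom)), g, ⟨⟩, Over.OverMorphism.ext hl⟩
    · rintro ⟨_, d, _, ⟨⟩, rfl⟩
      refine ⟨_, d.left ≫ b, p, ⟨⟩, ObjectProperty.hom_ext _ ?_⟩
      show (d.left.hom ≫ pullback.fst p.hom f.left.hom) ≫ p.hom =
        (d.left.hom ≫ pullback.snd p.hom f.left.hom) ≫ f.left.hom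
      rw [Category.assoc, sq.w, Category.assoc]
  rw [hgen, ← Presieve.isSheafFor_iff_generate, Presieve.isSheafFor_singleton]
  intro t ht
  have hga : IsProperMor g.left.hom :=
    isProperMor_baseChange V₀.property U₀.property T.left.property W.property sq hp
  have hgs : IsSurjectiveMor g.left.hom := isSurjectiveMor_baseChange sq hs
  have sq₂ := IsPullback.of_hasPullback a.hom a.hom
  let W₂ : Space S := ⟨pullback a.hom a.hom,
    isAlgSpace_of_isPullback_space T.left.property W.property W.property sq₂⟩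
  let c₁ : W₂ ⟶ W := ObjectProperty.homMk (pullback.fst a.hom a.hom)
  let c₂ : W₂ ⟶ W := ObjectProperty.homMk (pullback.snd a.hom a.hom)
  have hc : c₁ ≫ a = c₂ ≫ a := ObjectProperty.hom_ext _ sq₂.w
  let u₁ : Over.mk (c₁ ≫ a ≫ T.hom) ⟶ Over.mk (a ≫ T.hom) := Over.homMk c₁ rfl
  let u₂ : Over.mk (c₁ ≫ a ≫ T.hom) ⟶ Over.mk (a ≫ T.hom) := Over.homMk c₂ (by
    show c₂ ≫ a ≫ T.hom = c₁ ≫ a ≫ T.hom
    rw [← Category.assoc, ← hc, Category.assoc])
  exact hd g u₁ u₂ hga hgs sq₂ t (ht u₁ u₂ (Over.OverMorphism.ext hc))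

theorem isProperMor_yon {U V : Over S} (m : U ⟶ V) [IsProper m.left] : IsProperMor ((yon S).map m) :=
  (isProperMor_iff_repWith (IsAlgSpace.yon_obj U) (IsAlgSpace.yon_obj V)
    ((repWith_yon_iff (P := ⊤) m).2 trivial).1).2 ((repWith_yon_iff m).2 (inferInstanceAs (IsProper m.left)))

/-- a sieve on an affine scheme through which a standard ph covering factors covers -/
theorem standardPh_mem (hF : Presheaf.IsSheaf (spacesTopOver IsEtaleMor X) F) (hd : Desc F) {Z : Over S}
    (h : (ofScheme S).obj Z ⟶ X) (R : Sieve ((ofScheme S).obj Z)) (E : PreZeroHypercover.{0} Z.left)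
    (hE : HTop.IsStandardPh E)
    (hR : ∀ j, R ((ofScheme S).map (Over.homMk (E.f j) rfl : Over.mk (E.f j ≫ Z.hom) ⟶ Z))) :
    (Sieve.overEquiv (Over.mk h)).symm R ∈ Sheaf.finestTopologySingle F (Over.mk h) := by
  obtain ⟨-, -, -, P₀, π₀, e, hπ, hπs, he, hef, hcov⟩ := hE
  let P : Over S := Over.mk (π₀ ≫ Z.hom)
  let π' : P ⟶ Z := Over.homMk π₀ rfl
  let π : (ofScheme S).obj P ⟶ (ofScheme S).obj Z := (ofScheme S).map π'
  haveI : IsProper π'.left := hπ
  have h₁ := proper_mem hd h π (isProperMor_yon π')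
    (isSurjectiveMor_of_repWith ((repWith_yon_iff π').2 (show Surjective π'.left from hπs)))
  refine (Sheaf.finestTopologySingle F).transitive h₁ _ ?_
  intro T g hg
  rw [Sieve.overEquiv_symm_iff] at hg
  obtain ⟨V₁, d, p₁, ⟨⟩, hdg⟩ := hg
  have h₂ : (Sieve.overEquiv (Over.mk (π ≫ h))).symm (R.pullback π) ∈
      Sheaf.finestTopologySingle F (Over.mk (π ≫ h)) := by
    let A : E.I₀ → Over S := fun j => Over.mk (e j ≫ P.hom)
    let i : ∀ j, A j ⟶ P := fun j => Over.homMk (e j) rfl
    let Rz : Presieve ((ofScheme S).obj P) := fun Y y => ∃ (j : E.I₀) (hY : Y = (ofScheme S).obj (A j)),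
      y = eqToHom hY ≫ (ofScheme S).map (i j)
    refine GrothendieckTopology.superset_covering _ ((Sieve.overEquiv (Over.mk (π ≫ h))).symm.monotone
      (Sieve.generate_le_iff Rz (R.pullback π) |>.2 ?_)) (etale_mem hF (π ≫ h) Rz ⟨?_, ?_⟩)
    · rintro _ _ ⟨j, rfl, rfl⟩
      show R ((eqToHom rfl ≫ _) ≫ π)
      rw [eqToHom_refl, Category.id_comp]
      let k : A j ⟶ Over.mk (E.f j ≫ Z.hom) := Over.homMk (𝟙 _) (by
        show 𝟙 _ ≫ E.f j ≫ Z.hom = e j ≫ π₀ ≫ Z.hom
        rw [Category.id_comp, ← Category.assoc (e j), hef j])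
      have : (ofScheme S).map (i j) ≫ π = (ofScheme S).map k ≫
          (ofScheme S).map (Over.homMk (E.f j) rfl : Over.mk (E.f j ≫ Z.hom) ⟶ Z) := by
        rw [← Functor.map_comp, ← Functor.map_comp]
        congr 1
        apply Over.OverMorphism.ext
        show e j ≫ π₀ = 𝟙 _ ≫ E.f j
        rw [Category.id_comp, hef j]
      rw [this]
      exact R.downward_closed (hR j) _
    · rintro _ _ ⟨j, rfl, rfl⟩
      rw [eqToHom_refl, Category.id_comp]
      haveI := he j
      exact isEtaleMor_of_repWith' ((repWith_yon_iff (i j)).2 (show Etale (e j) from inferInstance))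
    · intro x
      obtain ⟨y, rfl⟩ := (Points.schemeEquiv P).surjective x
      obtain ⟨j, z, rfl⟩ := hcov y
      refine ⟨_, (ofScheme S).map (i j), ⟨j, rfl, (Category.id_comp _).symm⟩, Points.ofScheme (A j) z, ?_⟩
      show Points.map ((yon S).map (i j)) _ = _
      rw [← Points.ofPt_eq_map_ofScheme, ofScheme_map]
      rfl
  let dl : T ⟶ Over.mk (π ≫ h) := Over.homMk d (by
    show d ≫ π ≫ h = T.hom
    rw [← Category.assoc, hdg]
    exact Over.w g)
  refine GrothendieckTopology.superset_covering _ ?_ ((Sheaf.finestTopologySingle F).pullback_stable dl h₂)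
  intro Z' k hk
  rw [Sieve.pullback_apply, Sieve.overEquiv_symm_iff] at hk ⊢
  show R ((k ≫ g).left)
  rw [Over.comp_left, ← hdg]
  have hk' : R ((k.left ≫ d) ≫ π) := hk
  rwa [Category.assoc] at hk'

theorem exists_affine_etale_covering (U₀ : Space S) :
    ∃ R : Presieve U₀, R ∈ spacesPre S IsEtaleMor U₀ ∧
      ∀ ⦃Y : Space S⦄ (g : Y ⟶ U₀), R g → ∃ Z : Over S, IsAffine Z.left ∧ Y = (ofScheme S).obj Z := by
  refine ⟨fun Y g => IsEtaleMor g.hom ∧ ∃ Z : Over S, IsAffine Z.left ∧ Y = (ofScheme S).obj Z,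
    ⟨fun Y g hg => hg.1, fun x => ?_⟩, fun Y g hg => hg.2⟩
  obtain ⟨U, π, ι, O, hπ, hπs, hO, -, hcov⟩ := exists_affine_chart_family U₀.property
  obtain ⟨u, rfl⟩ := ofPt_surjective hπs x
  obtain ⟨i, hi⟩ := hcov u
  let A : Over S := Over.mk ((O i).ι ≫ U.hom)
  let j : A ⟶ U := Over.homMk (O i).ι rfl
  refine ⟨(ofScheme S).obj A, ObjectProperty.homMk ((yon S).map j ≫ π), ⟨?_, A, hO i, rfl⟩,
    Points.ofScheme A ⟨u, hi⟩, ?_⟩
  · exact isEtaleMor_of_repWith' (repWith_comp ((repWith_yon_iff j).2 (show Etale (O i).ι from inferInstance)) hπ)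
  · show Points.map ((yon S).map j ≫ π) _ = _
    rw [← Points.ofPt_eq_map_ofScheme, ofPt_comp]
    rfl

theorem phTop_le (hF : Presheaf.IsSheaf (spacesTopOver IsEtaleMor X) F) (hd : Desc F) :
    phSpacesTopOver X ≤ Sheaf.finestTopologySingle F := by
  suffices H : ∀ {U₀ : Space S} {R : Sieve U₀}, R ∈ phSpacesTop S U₀ → ∀ (Y : Space S) (f : Y ⟶ U₀) (h : Y ⟶ X),
      (Sieve.overEquiv (Over.mk h)).symm (R.pullback f) ∈ Sheaf.finestTopologySingle F (Over.mk h) by
    intro U R hR
    rw [GrothendieckTopology.mem_over_iff] at hR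
    have h1 := H hR U.left (𝟙 _) U.hom
    rw [Sieve.pullback_id] at h1
    have h2 : (Sieve.overEquiv U).symm (Sieve.overEquiv U R) ∈ Sheaf.finestTopologySingle F U := h1
    rwa [OrderIso.symm_apply_apply] at h2
  intro U₀ R hR
  induction hR with
  | of U₀ R₀ hR₀ =>
    intro Y f h
    obtain ⟨Rc, hRc, hRcZ⟩ := exists_affine_etale_covering Y
    refine (Sheaf.finestTopologySingle F).transitive (etale_mem hF h Rc hRc) _ ?_
    intro T g hg
    rw [Sieve.overEquiv_symm_iff] at hg
    obtain ⟨Y', d, c, hc, hdc⟩ := hg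
    obtain ⟨Z, hZ, rfl⟩ := hRcZ c hc
    have h₃ : (Sieve.overEquiv (Over.mk (c ≫ h))).symm ((Sieve.generate R₀).pullback (c ≫ f)) ∈
        Sheaf.finestTopologySingle F (Over.mk (c ≫ h)) := by
      obtain ⟨E, hE, hj⟩ := hR₀.2 Z hZ (c ≫ f).hom
      refine standardPh_mem hF hd (c ≫ h) _ E hE fun j => ?_
      obtain ⟨Y'', g', hg', l, hl⟩ := hj j
      exact ⟨Y'', ObjectProperty.homMk l, g', hg', ObjectProperty.hom_ext _ hl⟩
    let dl : T ⟶ Over.mk (c ≫ h) := Over.homMk d (by
      show d ≫ c ≫ h = T.hom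
      rw [← Category.assoc, hdc]
      exact Over.w g)
    refine GrothendieckTopology.superset_covering _ ?_ ((Sheaf.finestTopologySingle F).pullback_stable dl h₃)
    intro Z' k hk
    rw [Sieve.pullback_apply, Sieve.overEquiv_symm_iff] at hk ⊢
    show (Sieve.generate R₀).pullback f (k ≫ g).left
    rw [Sieve.pullback_apply, Over.comp_left, ← hdc]
    have hk' : (Sieve.generate R₀) ((k.left ≫ d) ≫ c ≫ f) := hk
    simpa only [Category.assoc] using hk'
  | top U₀ =>
    intro Y f h
    rw [Sieve.pullback_top, OrderIso.map_top]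
    exact GrothendieckTopology.top_mem _ _
  | pullback U₀ R _ U₁ g ih =>
    intro Y f h
    rw [← Sieve.pullback_comp]
    exact ih Y (f ≫ g) h
  | transitive U₀ R₁ R₂ _ _ ih₁ ih₂ =>
    intro Y f h
    refine (Sheaf.finestTopologySingle F).transitive (ih₁ Y f h) _ ?_
    intro T g hg
    rw [Sieve.overEquiv_symm_iff] at hg
    have hg' : R₁ (g.left ≫ f) := hg
    have h₄ := ih₂ hg' T.left (𝟙 _) T.hom
    rw [Sieve.pullback_id] at h₄
    refine GrothendieckTopology.superset_covering _ ?_ h₄
    intro Z' k hk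
    rw [Sieve.pullback_apply, Sieve.overEquiv_symm_iff]
    have hk' : R₂ (k.left ≫ g.left ≫ f) := (Sieve.overEquiv_symm_iff _ k).1 hk
    show R₂ ((k ≫ g).left ≫ f)
    rwa [Over.comp_left, Category.assoc]

/-- etale coverings are ph coverings -/
theorem etale_le_ph : spacesTop S IsEtaleMor ≤ phSpacesTop S := by
  intro U₀ R hR
  induction hR with
  | of U₀ R₀ hR₀ =>
    refine Precoverage.generate_mem_toGrothendieck ?_
    obtain ⟨hP, hsurj⟩ := hR₀
    refine ⟨fun Y g hg U V a b k ha hb hk => ?_, fun Z hZ z => ?_⟩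
    · haveI : Etale k.left := (isEtaleMor_iff_locP U₀.property).1 (hP g hg) a b k ha hb hk
      infer_instance
    · choose Y g hg hx using hsurj
      let pt : Z.left → Points U₀.obj := fun t => Points.map z (Points.ofScheme Z t)
      have sq := fun t : Z.left => IsPullback.of_hasPullback (g (pt t)).hom z
      let W : Z.left → Space S := fun t => ⟨pullback (g (pt t)).hom z,
        isAlgSpace_of_isPullback_space U₀.property (Y (pt t)).property (IsAlgSpace.yon_obj Z) (sq t)⟩
      have hc : IsFppfCover (fun t => (W t).obj) (fun t => pullback.snd (g (pt t)).hom z) := by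
        refine ⟨fun t => ?_, fun x => ?_⟩
        · have he : LocP @Etale (g (pt t)).hom := (isEtaleMor_iff_locP U₀.property).1 (hP _ (hg _))
          exact ⟨locP_baseChange etST_flat (Y (pt t)).property U₀.property (W t).property (IsAlgSpace.yon_obj Z) (sq t)
              (fun U V a b k ha hb hk => by haveI : Etale k.left := he a b k ha hb hk; infer_instance),
            locP_baseChange etST_lfp (Y (pt t)).property U₀.property (W t).property (IsAlgSpace.yon_obj Z) (sq t)
              (fun U V a b k ha hb hk => by haveI : Etale k.left := he a b k ha hb hk; infer_instance)⟩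
        · obtain ⟨t, rfl⟩ := (Points.schemeEquiv Z).surjective x
          obtain ⟨y, hy⟩ := hx (pt t)
          obtain ⟨p, -, hp⟩ := exists_point_of_isPullback (sq t) y (Points.ofScheme Z t) hy
          exact ⟨t, p, hp⟩
      obtain ⟨E, hE, hj⟩ := (Groth.Agent.S10514.result (⟨(yon S).obj Z, IsAlgSpace.yon_obj Z⟩ : Space S) W
        (fun t => ObjectProperty.homMk (pullback.snd (g (pt t)).hom z)) hc).2 Z hZ (𝟙 _)
      refine ⟨E, hE, fun j => ?_⟩
      obtain ⟨t, l, hl⟩ := hj j
      refine ⟨Y (pt t), g (pt t), hg (pt t), l ≫ pullback.fst (g (pt t)).hom z, ?_⟩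
      rw [Category.assoc, pullback.condition]
      exact (Category.assoc _ _ _).symm.trans (congrArg (· ≫ z) (hl.trans (Category.comp_id _)))
  | top => exact GrothendieckTopology.top_mem _ _
  | pullback _ _ _ _ _ ih => exact GrothendieckTopology.pullback_stable _ _ ih
  | transitive _ _ _ _ _ ih₁ ih₂ => exact GrothendieckTopology.transitive _ ih₁ _ ih₂

theorem isSheaf_iff (F : (Over X)ᵒᵖ ⥤ Type w) :
    Presheaf.IsSheaf (phSpacesTopOver X) F ↔
      Presheaf.IsSheaf (spacesTopOver IsEtaleMor X) F ∧ Desc F := by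
  constructor
  · intro hF
    have hF' := (isSheaf_iff_isSheaf_of_type _ F).1 hF
    refine ⟨(isSheaf_iff_isSheaf_of_type _ F).2 (Presieve.isSheaf_of_le _ ?_ hF'), ?_⟩
    · intro U R hR
      rw [GrothendieckTopology.mem_over_iff] at hR ⊢
      exact etale_le_ph _ hR
    · intro U V W f p q hp hs sq t ht
      let V' : Space S := V.left
      have hcov : Sieve.generate (Presieve.singleton f) ∈ phSpacesTopOver X U := by
        rw [GrothendieckTopology.mem_over_iff]
        refine GrothendieckTopology.superset_covering _ ?_ (Precoverage.generate_mem_toGrothendieck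
          (R := Presieve.ofArrows (fun _ : PUnit.{u + 1} => V.left) (fun _ => f.left))
          ((ofArrows_mem_phSpacesPre_iff _ _).2 (SpApprox.isPhCover_of_proper_surjective f.left hp hs)))
        rw [Sieve.generate_le_iff]
        rintro _ _ ⟨_⟩
        rw [Sieve.overEquiv_iff]
        refine ⟨V, Over.homMk (𝟙 V.left) ((Category.id_comp _).trans (Over.w f).symm), f, ⟨⟩, Over.OverMorphism.ext (Category.id_comp _)⟩
      have h₁ : Presieve.IsSheafFor F (Presieve.singleton f) := by
        rw [Presieve.isSheafFor_iff_generate]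
        exact hF' _ hcov
      refine (Presieve.isSheafFor_singleton.1 h₁) t fun {Z} a b hab => ?_
      let l : Z.left ⟶ W.left := ObjectProperty.homMk (sq.lift a.left.hom b.left.hom
        (congrArg (fun m : Z ⟶ U => m.left.hom) hab))
      have hla : l ≫ p.left = a.left := ObjectProperty.hom_ext _ (sq.lift_fst _ _ _)
      have hlb : l ≫ q.left = b.left := ObjectProperty.hom_ext _ (sq.lift_snd _ _ _)
      let l' : Z ⟶ W := Over.homMk l (by rw [← Over.w p, reassoc_of% hla, Over.w a])
      have ha : a = l' ≫ p := Over.OverMorphism.ext hla.symm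
      have hb : b = l' ≫ q := Over.OverMorphism.ext hlb.symm
      rw [ha, hb, op_comp, op_comp, Functor.map_comp_apply, Functor.map_comp_apply, ht]
  · rintro ⟨hF, hd⟩
    refine (isSheaf_iff_isSheaf_of_type _ F).2 (Presieve.isSheaf_of_le _ (phTop_le hF hd) ?_)
    intro U R hR
    simpa using hR U (𝟙 U)

end Groth.Agent.PhSheaf
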